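import Groth.Agent.Neron.K131.Bdd
import Mathlib.AlgebraicGeometry.Morphisms.ClosedImmersion

/-!
# Bounded sets of rational points and closed immersions

* `bdd_of_closed`: if `j : Z ⟶ X` is a closed immersion and `P` is a bounded set of `K`-points of `X`, then the set of
  `K`-points of `Z` which are sent to `P` is bounded.
-/

set_option autoImplicit false
universe u

open CategoryTheory CategoryTheory.Limits AlgebraicGeometry

namespace K130.BddClosed
open K131.Bdd

/-- (CL) boundedness and closed immersions. -/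
theorem bdd_of_closed {R K : Type u} [CommRing R] [Field K] [Algebra R K] {X Z : Scheme.{u}}
    (a : X ⟶ Spec (CommRingCat.of K)) (j : Z ⟶ X) [IsClosedImmersion j] {P : (Spec (CommRingCat.of K) ⟶ X) → Prop}
    (h : Bdd R a P) : Bdd R (j ≫ a) (fun c => P (c ≫ j)) := by
  obtain ⟨Y, hY⟩ := h
  have h1 : ∀ i : Fin Y.n, ∃ I : Ideal (Y.D i), ∃ e : pullback j (Y.u i) ≅ Spec (CommRingCat.of (Y.D i ⧸ I)),
      pullback.snd j (Y.u i) = e.hom ≫ Spec.map (CommRingCat.ofHom (Ideal.Quotient.mk I)) := fun i =>
    (IsClosedImmersion.Spec_iff (R := CommRingCat.of (Y.D i)) (f := pullback.snd j (Y.u i))).1 inferInstance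
  choose I e he using h1
  have he' : ∀ i, (e i).inv ≫ pullback.snd j (Y.u i) = Spec.map (CommRingCat.ofHom (Ideal.Quotient.mk (I i))) := by
    intro i
    rw [he, Iso.inv_hom_id_assoc]
  refine ⟨{ n := Y.n, D := fun i => Y.D i ⧸ I i, u := fun i => (e i).inv ≫ pullback.fst j (Y.u i), m := Y.m,
            x := fun i l => Ideal.Quotient.mk (I i) (Y.x i l), isOpenImmersion := fun i => inferInstance,
            over := ?_, adjoin := ?_ }, ?_⟩
  · intro i
    rw [Category.assoc, pullback.condition_assoc, Y.over, reassoc_of% (he' i), ← Spec.map_comp,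
      ← CommRingCat.ofHom_comp]
  · intro i
    have h2 : Set.range (fun l => Ideal.Quotient.mk (I i) (Y.x i l)) =
        (Ideal.Quotient.mkₐ K (I i)) '' Set.range (Y.x i) := by
      rw [← Set.range_comp]
      rfl
    rw [h2, ← AlgHom.map_adjoin, Y.adjoin, Algebra.map_top, AlgHom.range_eq_top]
    exact Ideal.Quotient.mkₐ_surjective K (I i)
  · intro c hc hP
    obtain ⟨i, δ, hδ, hx, hi⟩ := hY (c ≫ j) (by rw [Category.assoc, hc]) hP
    let s : Spec (CommRingCat.of K) ⟶ pullback j (Y.u i) := pullback.lift c (Spec.map (CommRingCat.ofHom δ)) hi.symm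
    let δ' : Y.D i ⧸ I i →+* K := (Spec.preimage (s ≫ (e i).hom)).hom
    have hδ' : Spec.map (CommRingCat.ofHom δ') = s ≫ (e i).hom := Spec.map_preimage _
    have h3 : δ'.comp (Ideal.Quotient.mk (I i)) = δ := by
      have h4 : Spec.map (CommRingCat.ofHom (δ'.comp (Ideal.Quotient.mk (I i)))) = Spec.map (CommRingCat.ofHom δ) := by
        rw [CommRingCat.ofHom_comp, Spec.map_comp, hδ', Category.assoc, ← he]
        exact pullback.lift_snd _ _ _
      exact congrArg CommRingCat.Hom.hom (Spec.map_injective h4)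
    refine ⟨i, δ', ?_, ?_, ?_⟩
    · rw [← hδ, ← h3]
      rfl
    · intro l
      have h5 := hx l
      rw [← h3] at h5
      exact h5
    · change Spec.map (CommRingCat.ofHom δ') ≫ (e i).inv ≫ pullback.fst j (Y.u i) = c
      rw [hδ', Category.assoc, Iso.hom_inv_id_assoc]
      exact pullback.lift_fst _ _ _

end K130.BddClosed
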